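import Groth.Agent.H1AssDim.Equidim
import Groth.Agent.QCoh.VanIdeal
import Groth.Agent.AssLib.Apply
import Groth.Agent.S2085
import Mathlib

/-!
# Equidimensional fibres without embedded components, for the structure sheaf
-/

universe u

set_option backward.isDefEq.respectTransparency false
set_option backward.isDefEq.respectTransparency.types false
set_option linter.style.haveILetI false
set_option maxHeartbeats 1000000

open AlgebraicGeometry CategoryTheory IsLocalRing

namespace Groth.Agent.H1GeomRk

open H1AssDim (XGen XAss XMin)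

variable {X Y : Scheme.{u}} (f : X ⟶ Y)

theorem nonempty_stalkUnitEquiv {X : Scheme.{u}} (x : X) :
    Nonempty (X.presheaf.stalk x ≃ₗ[X.presheaf.stalk x] (Coh.structureModule X).presheaf.stalk x) :=
  ⟨KFlatLib.stalkUnitEquiv x⟩

theorem isFP_structureModule (X : Scheme.{u}) : CohB1.IsFP (Coh.structureModule X) :=
  QCoh.isFP_of_finitePresentation QCoh.isQCoh_structureModule (fun i : X.affineOpens => i.1)
    (iSup_affineOpens_eq_top X) (fun i => i.2) fun i =>
      inferInstanceAs (Module.FinitePresentation Γ(X, i.1) Γ(X, i.1))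

theorem isFlatOver_structureModule [Flat f] : FlatMod.IsFlatOver f (Coh.structureModule X) := fun x => by
  obtain ⟨e⟩ := nonempty_stalkUnitEquiv (X := X) x
  letI := FlatMod.moduleStalkOver f (Coh.structureModule X) x
  letI := (f.stalkMap x).hom.toAlgebra
  haveI : Module.Flat (Y.presheaf.stalk (f x)) (X.presheaf.stalk x) := Flat.stalkMap f x
  haveI : IsScalarTower (Y.presheaf.stalk (f x)) (X.presheaf.stalk x) ((Coh.structureModule X).presheaf.stalk x) :=
    IsScalarTower.of_algebraMap_smul fun _ _ => rfl
  exact Module.Flat.of_linearEquiv (e.symm.restrictScalars (Y.presheaf.stalk (f x)))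

/-- The stalk of the restriction of the structure sheaf to a fibre. -/
theorem nonempty_fibre_unit_equiv (s : Y) (w : ↥(f.fiber s)) :
    Nonempty ((((Scheme.Modules.pullback (f.fiberι s)).obj (Coh.structureModule X)).presheaf.stalk w) ≃ₗ[(f.fiber s).presheaf.stalk w]
      (f.fiber s).presheaf.stalk w) := by
  letI : Algebra (X.presheaf.stalk (f.fiberι s w)) ((f.fiber s).presheaf.stalk w) :=
    ((f.fiberι s).stalkMap w).hom.toAlgebra
  obtain ⟨e⟩ := nonempty_stalkUnitEquiv (X := X) (f.fiberι s w)
  let e₀ : (((Scheme.Modules.pullback (f.fiberι s)).obj (Coh.structureModule X)).presheaf.stalk w) ≃ₗ[(f.fiber s).presheaf.stalk w]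
      TensorProduct (X.presheaf.stalk (f.fiberι s w)) ((f.fiber s).presheaf.stalk w)
        ((Coh.structureModule X).presheaf.stalk (f.fiberι s w)) :=
    ((KFlatLib.stalkPullbackIso (f.fiberι s) w).app (Coh.structureModule X)).toLinearEquiv
  exact ⟨e₀.trans ((LinearEquiv.baseChange _ _ _ _ e.symm).trans (TensorProduct.AlgebraTensorModule.rid _ _ _))⟩

/-- A ring is equidimensional as a ring iff it is as a module. -/
theorem isEquidimModule_congr {L G : Type u} [CommRing L] [AddCommGroup G] [Module L G] (e : G ≃ₗ[L] L) :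
    EGA4.IsEquidimModule L G ↔ EGA4.IsEquidim L := by
  rw [EGA4.IsEquidimModule, EGA4.IsEquidim, e.annihilator_eq, Module.supportDim_eq_of_equiv e,
    Module.supportDim_self_eq_ringKrullDim, Module.annihilator_eq_bot.2 inferInstance]

theorem embedded_congr {L G : Type u} [CommRing L] [IsNoetherianRing L] [AddCommGroup G] [Module L G] [Module.Finite L G]
    (e : G ≃ₗ[L] L) :
    LocCoh.HasSk 1 L G ↔ ∀ p ∈ associatedPrimes L L, p ∈ minimalPrimes L := by
  rw [← S2085.result, LinearEquiv.AssociatedPrimes.eq e, e.annihilator_eq, Module.annihilator_eq_bot.2 inferInstance]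

theorem forall_fibre_iff [LocallyOfFiniteType f] (s : Y) (w : ↥(f.fiber s)) :
    (EGA4.IsEquidimModule ((f.fiber s).presheaf.stalk w)
        (((Scheme.Modules.pullback (f.fiberι s)).obj (Coh.structureModule X)).presheaf.stalk w) ∧
      LocCoh.HasSk 1 ((f.fiber s).presheaf.stalk w)
        (((Scheme.Modules.pullback (f.fiberι s)).obj (Coh.structureModule X)).presheaf.stalk w)) ↔
    (EGA4.IsEquidim ↑((f.fiber s).presheaf.stalk w) ∧
      ∀ p ∈ associatedPrimes ↑((f.fiber s).presheaf.stalk w) ↑((f.fiber s).presheaf.stalk w),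
        p ∈ minimalPrimes ↑((f.fiber s).presheaf.stalk w)) := by
  haveI : IsLocallyNoetherian (f.fiber s) := LocallyOfFiniteType.isLocallyNoetherian (f.fiberToSpecResidueField s)
  haveI := Codepth5.finite_fibre_stalk f (Coh.structureModule X) (isFP_structureModule X) s w
  obtain ⟨e⟩ := nonempty_fibre_unit_equiv f s w
  rw [isEquidimModule_congr e, embedded_congr e]

end Groth.Agent.H1GeomRk
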