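import Groth.Agent.H1GeomRk.Open
import Groth.Agent.ConsPropLib.FibreLoci
import Mathlib

/-!
# Dimensions of generizations in the fibres inside a constructible set
-/

universe u

set_option backward.isDefEq.respectTransparency false
set_option backward.isDefEq.respectTransparency.types false
set_option linter.style.haveILetI false
set_option maxHeartbeats 1000000

open AlgebraicGeometry CategoryTheory CategoryTheory.Limits Topology TopologicalSpace

namespace Groth.Agent.H1GeomRk

/-- The points with a generization in the fibre inside `E` of relative dimension at least `n`. -/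
def GenGE {X S : Scheme.{u}} (f : X ⟶ S) [LocallyOfFiniteType f] (E : Set X) (n : ℕ) : Set X :=
  {x | ∃ t ∈ E, t ⤳ x ∧ f t = f x ∧ n ≤ FibDim.rd f t}

theorem isClosed_genGE {X S : Scheme.{u}} (f : X ⟶ S) [LocallyOfFiniteType f] {Z : Set X} (hZ : IsClosed Z) (n : ℕ) :
    IsClosed (GenGE f Z n) := by
  rw [← isOpen_compl_iff]
  cases n with
  | zero =>
    convert hZ.isOpen_compl using 1
    exact Set.ext fun x => not_congr ⟨fun ⟨t, ht, hsp, _⟩ => hsp.mem_closed hZ ht,
      fun h => ⟨x, h, specializes_rfl, rfl, Nat.zero_le _⟩⟩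
  | succ n =>
    convert isOpen_forall_rd_le f hZ n using 1
    exact Set.ext fun x => ⟨fun h w hw hwx he => Nat.le_of_not_lt fun hlt => h ⟨w, hw, hwx, he, hlt⟩,
      fun h ⟨t, ht, hsp, he, hle⟩ => absurd (h t ht hsp he) (Nat.not_le.2 hle)⟩

theorem isConstructible_genGE {X S : Scheme.{u}} [IsNoetherian X] [IsNoetherian S] (f : X ⟶ S)
    [LocallyOfFiniteType f] {E : Set X} (hE : IsConstructible E) (n : ℕ) : IsConstructible (GenGE f E n) := by
  refine ConsPropLib.isConstructible_of_dichotomy _ fun T j _ _ _ => ?_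
  obtain ⟨TS, jS, _, _, hr, hgen⟩ := ConsPropLib.exists_integral_closure (f (j (genericPoint T)))
  haveI : IsLocallyNoetherian TS := LocallyOfFiniteType.isLocallyNoetherian jS
  haveI : CompactSpace TS := QuasiCompact.compactSpace_of_compactSpace jS
  haveI : IsNoetherian TS := {}
  have sub : Set.range (j ≫ f) ⊆ Set.range jS := by
    rw [hr]
    rintro _ ⟨t, rfl⟩
    exact specializes_iff_mem_closure.1 ((genericPoint_specializes t).map (j ≫ f).continuous)
  obtain ⟨a, ha⟩ := H23.RedSub.exists_lift_closed (j ≫ f) jS sub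
  let l : T ⟶ pullback f jS := pullback.lift j a ha.symm
  let p := pullback.fst f jS
  let f₁ := pullback.snd f jS
  haveI : IsLocallyNoetherian (pullback f jS : Scheme.{u}) := LocallyOfFiniteType.isLocallyNoetherian p
  haveI : CompactSpace (pullback f jS : Scheme.{u}) := QuasiCompact.compactSpace_of_compactSpace p
  haveI : IsNoetherian (pullback f jS : Scheme.{u}) := {}
  have hpf : ∀ y, f (p y) = jS (f₁ y) := fun y => by
    rw [← Scheme.Hom.comp_apply, ← Scheme.Hom.comp_apply]
    exact congrArg (fun φ : (pullback f jS : Scheme.{u}) ⟶ S => φ y) pullback.condition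
  have hrd : ∀ y, FibDim.rd f₁ y = FibDim.rd f (p y) := fun y => by
    have h1 := FibDim.rd_comp f₁ jS y
    have h2 := FibDim.rd_comp p f y
    rw [FibDim.rd_eq_zero_of_quasiFinite jS, zero_add] at h1
    rw [FibDim.rd_eq_zero_of_quasiFinite p, add_zero] at h2
    rw [← h1, ← h2]
    exact congrArg (fun φ : (pullback f jS : Scheme.{u}) ⟶ S => FibDim.rd φ y) pullback.condition.symm
  have hgenGE : p ⁻¹' GenGE f E n = GenGE f₁ (p ⁻¹' E) n := by
    ext y
    constructor
    · rintro ⟨t, ht, hsp, he, hn⟩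
      obtain ⟨t', rfl⟩ : t ∈ Set.range p := by
        rw [Scheme.Pullback.range_fst]
        exact ⟨f₁ y, (hpf y).symm.trans he.symm⟩
      exact ⟨t', ht, p.isEmbedding.isInducing.specializes_iff.1 hsp,
        jS.isEmbedding.injective ((hpf t').symm.trans (he.trans (hpf y))), by rwa [hrd]⟩
    · rintro ⟨t, ht, hsp, he, hn⟩
      exact ⟨p t, ht, hsp.map p.continuous, by rw [hpf, hpf, he], by rwa [← hrd]⟩
  let E₁ := p ⁻¹' E
  have hE₁ : IsConstructible E₁ := MorLib.LimCons.isConstructible_preimage p hE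
  have hclE : IsConstructible (closure E₁) := by
    rw [← isConstructible_compl]
    exact (show IsRetrocompact (closure E₁)ᶜ from fun U _ _ => NoetherianSpace.isCompact _).isConstructible
      isClosed_closure.isOpen_compl
  obtain ⟨W, hW, hηW, hdense⟩ := ConsPropLib.exists_nhd_dense f₁ hE₁ hclE (by
    rintro y ⟨hy, hyη⟩
    haveI : SpectralSpace ↥(pullback f jS : Scheme.{u}) := { }
    obtain ⟨z, hz, hzy⟩ := (ProConsLib.consClosed_of_isConstructible hE₁).exists_specializes_of_mem_closure hy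
    have hzη : f₁ z = genericPoint TS :=
      (((hzy.map f₁.continuous).trans (specializes_of_eq hyη)).antisymm (genericPoint_specializes _)).eq
    exact closure_mono (Set.singleton_subset_iff.2 (show z ∈ E₁ ∩ _ from ⟨hz, hzη⟩)) hzy.mem_closure)
  have hkey : ∀ y, f₁ y ∈ W → (y ∈ GenGE f₁ E₁ n ↔ y ∈ GenGE f₁ (closure E₁) n) := by
    intro y hy
    constructor
    · rintro ⟨t, ht, h⟩
      exact ⟨t, subset_closure ht, h⟩
    · rintro ⟨t, ht, hsp, he, hn⟩
      have h1 := hdense (f₁ y) hy ⟨ht, he⟩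
      obtain ⟨w, rfl⟩ := H1AssDim.exists_fibre_point f₁ (f₁ y) t he
      have h2 : w ∈ closure (f₁.fiberι (f₁ y) ⁻¹' E₁) := (ConsPropLib.closure_fiber f₁ E₁ (f₁ y)).ge h1
      haveI : IsLocallyNoetherian (f₁.fiber (f₁ y)) :=
        LocallyOfFiniteType.isLocallyNoetherian (f₁.fiberToSpecResidueField (f₁ y))
      haveI : CompactSpace (f₁.fiber (f₁ y)) :=
        QuasiCompact.compactSpace_of_compactSpace (f₁.fiberToSpecResidueField (f₁ y))
      haveI : IsNoetherian (f₁.fiber (f₁ y)) := {}
      haveI : SpectralSpace ↥(f₁.fiber (f₁ y)) := { }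
      obtain ⟨z, hz, hzw⟩ := (ProConsLib.consClosed_of_isConstructible
        (MorLib.LimCons.isConstructible_preimage (f₁.fiberι (f₁ y)) hE₁)).exists_specializes_of_mem_closure h2
      have hzt := hzw.map (f₁.fiberι (f₁ y)).continuous
      exact ⟨_, hz, hzt.trans hsp, FibDim.fiber_apply_fiberι f₁ z,
        hn.trans (FibDim.rd_le_of_specializes f₁ hzt ((FibDim.fiber_apply_fiberι f₁ z).trans he.symm))⟩
  have hlp : ∀ t, p (l t) = j t := fun t => by
    rw [← Scheme.Hom.comp_apply]
    exact congrArg (fun φ : T ⟶ X => φ t) (pullback.lift_fst _ _ _)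
  have hgenl : f₁ (l (genericPoint T)) = genericPoint TS := jS.isEmbedding.injective (by
    rw [hgen, ← hpf, hlp])
  have hU : IsOpen (l ⁻¹' (f₁ ⁻¹' W)) := (hW.preimage f₁.continuous).preimage l.continuous
  have hgU : genericPoint T ∈ l ⁻¹' (f₁ ⁻¹' W) := by show f₁ (l (genericPoint T)) ∈ W; rwa [hgenl]
  have hmem : ∀ t ∈ l ⁻¹' (f₁ ⁻¹' W), (j t ∈ GenGE f E n ↔ l t ∈ GenGE f₁ (closure E₁) n) := fun t ht => by
    rw [← hkey (l t) ht, ← hlp t]
    exact Set.ext_iff.1 hgenGE (l t)
  have hA := (isClosed_genGE f₁ (isClosed_closure (s := E₁)) n).preimage l.continuous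
  by_cases hg : l (genericPoint T) ∈ GenGE f₁ (closure E₁) n
  · refine Or.inl ⟨_, interior_maximal (fun t ht => (hmem t ht).2 ((genericPoint_specializes t).mem_closed hA hg)) hU hgU⟩
  · exact Or.inr ⟨_, interior_maximal (fun t ht h => ht.2 ((hmem t ht.1).1 h)) (hU.inter hA.isOpen_compl) ⟨hgU, hg⟩⟩

end Groth.Agent.H1GeomRk
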