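import Groth.Agent.H1GeomRk.Criterion
import Groth.Agent.H1GeomRk.Unit
import Groth.Agent.FibreLoc5.Smooth
import Mathlib

/-!
# Openness of the geometric condition `(R_k)` on the fibres of a flat morphism (EGA IV 12.1.6)
-/

universe u

set_option backward.isDefEq.respectTransparency false
set_option backward.isDefEq.respectTransparency.types false
set_option linter.style.haveILetI false
set_option maxHeartbeats 1000000

open AlgebraicGeometry CategoryTheory CategoryTheory.Limits IsLocalRing TopologicalSpace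

namespace Groth.Agent.H1GeomRk

open H1AssDim (XGen XAss XMin)

variable {X Y : Scheme.{u}} (f : X ⟶ Y)

/-- Semicontinuity of the dimension of the fibres of a closed subset. -/
theorem isOpen_forall_rd_le [LocallyOfFiniteType f] {Z : Set X} (hZ : IsClosed Z) (n : ℕ) :
    IsOpen {x : X | ∀ w ∈ Z, w ⤳ x → f w = f x → FibDim.rd f w ≤ n} := by
  refine isOpen_iff_forall_mem_open.2 fun x hx => ?_
  by_cases hxZ : x ∈ Z
  swap
  · exact ⟨Zᶜ, fun z hz w hw hwz => absurd (hwz.mem_closed hZ hw) hz, hZ.isOpen_compl, hxZ⟩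
  haveI : IsLocallyNoetherian (f.fiber (f x)) :=
    LocallyOfFiniteType.isLocallyNoetherian (f.fiberToSpecResidueField (f x))
  obtain ⟨W, hxW, hW⟩ := FibDim.exists_nhd_generizing (hZ.preimage (f.fiberι (f x)).continuous) (f.asFiber x)
  obtain ⟨W', hW', hWW'⟩ := (f.fiberι (f x)).isEmbedding.isInducing.isOpen_iff.mp W.isOpen
  have hxW' : x ∈ W' := by
    have : f.asFiber x ∈ (f.fiberι (f x)) ⁻¹' W' := hWW'.symm ▸ hxW
    simpa [Scheme.Hom.fiberι_asFiber] using this
  have hdim : topologicalKrullDim ↥(W' ∩ Z ∩ f ⁻¹' {f x}) ≤ n := by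
    refine (FibDim.dim_inter_le_iff f _ hW' hZ _).2 fun w h1 h2 h3 => ?_
    obtain ⟨w', rfl⟩ : w ∈ Set.range (f.fiberι (f x)) := by rw [Scheme.Hom.range_fiberι]; exact h3
    obtain ⟨ζ, hζ, hζx, hζw⟩ := hW w' (hWW'.le h1) h2
    refine le_trans (FibDim.rd_le_of_specializes f (hζw.map (f.fiberι (f x)).continuous)
      ((FibDim.fiber_apply_fiberι f ζ).trans h3.symm)) (hx _ hζ ?_ (FibDim.fiber_apply_fiberι f ζ))
    have := hζx.map (f.fiberι (f x)).continuous
    rwa [Scheme.Hom.fiberι_asFiber] at this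
  obtain ⟨U, hU, hxU, -, hUb⟩ := FibDim.exists_open_dim_le f hW' hZ hxW' hxZ n hdim
  exact ⟨U, fun z hz w hw hwz he =>
    (FibDim.dim_inter_le_iff f _ hU hZ _).1 (hUb (f w)) w (hwz.mem_open hU hz) hw rfl, hU, hxU⟩

/-- The dimension of a local ring of a fibre all whose components through the point have dimension `e`. -/
theorem exists_fibre_stalk_dim [LocallyOfFiniteType f] (s : Y) (z : ↥(f.fiber s)) (e : ℕ)
    (h : ∀ η, η ⤳ f.fiberι s z → f η = f (f.fiberι s z) → FibDim.FibMax f η → FibDim.rd f η = e) :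
    ∃ b : ℕ, ringKrullDim ((f.fiber s).presheaf.stalk z) = b ∧ FibDim.rd f (f.fiberι s z) + b = e := by
  obtain ⟨b, hb, ⟨η, hη, hηb⟩, hle⟩ :=
    VarDim.exists_deg_add_stalk (k := Y.residueField s) (f.fiberToSpecResidueField s) z
  refine ⟨b, hb, le_antisymm ?_ ?_⟩
  · obtain ⟨ζ, hζ, hfζ, hmax, hle'⟩ := FibDim.exists_fibMax_rd_ge f (η := f.fiberι s η) (hη.map (f.fiberι s).continuous)
    rw [h ζ hζ hfζ hmax] at hle'
    rw [FibDim.deg_fiber, FibDim.deg_fiber] at hηb
    omega
  · obtain ⟨ζ, hζ, hfζ, hmax, -⟩ := FibDim.exists_fibMax_generization f (f.fiberι s z)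
    obtain ⟨ζ', rfl⟩ := H1AssDim.exists_fibre_point f s ζ (hfζ.trans (FibDim.fiber_apply_fiberι f z))
    have h1 := hle ζ' ((FibDim.fiberι_specializes_iff f _ _).1 hζ)
    rw [FibDim.deg_fiber, FibDim.deg_fiber, h _ hζ hfζ hmax] at h1
    exact h1

/-- For a flat morphism the smooth locus of a fibre is induced. -/
theorem mem_fibre_smoothLocus_iff [Flat f] [LocallyOfFinitePresentation f] (s : Y)
    [LocallyOfFinitePresentation (f.fiberToSpecResidueField s)] (z : ↥(f.fiber s)) :
    z ∈ (f.fiberToSpecResidueField s).smoothLocus ↔ f.fiberι s z ∈ f.smoothLocus := by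
  have hsq : IsPullback (f.fiberι s) (f.fiberToSpecResidueField s) f (Y.fromSpecResidueField s) :=
    IsPullback.of_hasPullback _ _
  rw [S2155.result f _ (f.fiberToSpecResidueField s) (f.fiberι s) hsq (.inl inferInstance)]
  rfl

theorem xmin_iff_fibMax (x : X) : XMin f (Coh.structureModule X) x ↔ FibDim.FibMax f x := by
  have hsupp : ∀ t, t ∈ CohB1.support (Coh.structureModule X) := fun t hs => by
    obtain ⟨e⟩ := nonempty_stalkUnitEquiv (X := X) t
    exact not_subsingleton (X.presheaf.stalk t) e.toEquiv.subsingleton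
  exact ⟨fun h z hz he => h.2 z hz he (hsupp z), fun h => ⟨hsupp x, fun t ht he _ => h t ht he⟩⟩

/-- The maximal points of the fibres are associated. -/
theorem xass_of_fibMax [LocallyOfFiniteType f] (s : Y) (z : ↥(f.fiber s)) (h : FibDim.FibMax f (f.fiberι s z)) :
    XAss f (Coh.structureModule X) (f.fiberι s z) := by
  haveI : IsLocallyNoetherian (f.fiber s) := LocallyOfFiniteType.isLocallyNoetherian (f.fiberToSpecResidueField s)
  obtain ⟨hzS, hmax⟩ := (H1AssDim.xmin_iff_fibre f _ (isFP_structureModule X) s z).1 ((xmin_iff_fibMax f _).2 h)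
  obtain ⟨z₁, hz₁, hsp⟩ := AssLib.exists_ass_specializes
    (QCoh.isQCoh_pullback (f.fiberι s) (QCoh.isQCoh_of_isFP (isFP_structureModule X)))
    (show z ∈ CohB1.support _ from not_subsingleton_iff_nontrivial.2 hzS)
  obtain rfl := hmax z₁ (not_subsingleton_iff_nontrivial.1 (AssLib.mem_support_of_mem_ass hz₁)) hsp
  exact (H1AssDim.mem_ass_iff f _ (isFP_structureModule X) s z₁).1 hz₁

/-- The conditions at `x` on its fibre: equidimensional, no embedded components. -/
def EqNoEmb (x : X) : Prop :=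
  EGA4.IsEquidim ↑((f.fiber (f.base x)).presheaf.stalk (f.asFiber x)) ∧
    ∀ p ∈ associatedPrimes ↑((f.fiber (f.base x)).presheaf.stalk (f.asFiber x)) ↑((f.fiber (f.base x)).presheaf.stalk (f.asFiber x)),
      p ∈ minimalPrimes ↑((f.fiber (f.base x)).presheaf.stalk (f.asFiber x))

theorem isOpen_eqNoEmb [Flat f] [LocallyOfFinitePresentation f] : IsOpen {x : X | EqNoEmb f x} := by
  convert H1AssDim.isOpen_equidim_sk f (Coh.structureModule X) (isFP_structureModule X)
    (isFlatOver_structureModule f) (k := 1) le_rfl using 1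
  ext x
  exact (forall_fibre_iff f _ _).symm

/-- Near a point with equidimensional fibre the associated points of the fibre have one dimension. -/
theorem exists_xassGen_of_eqNoEmb [LocallyOfFinitePresentation f] (x : X) (h : EqNoEmb f x) :
    ∃ e : ℕ, XGen f (fun t => XAss f (Coh.structureModule X) t → (FibDim.rd f t : ℕ∞) ∈ ({(e : ℕ∞)} : Set ℕ∞)) x := by
  have hF := isFP_structureModule X
  obtain ⟨heq, hsk⟩ := (forall_fibre_iff f (f.base x) (f.asFiber x)).2 h
  rw [H1AssDim.hasSk_fibre_iff f _ hF] at hsk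
  rw [H1AssDim.isEquidimModule_fibre_iff f _ hF] at heq
  obtain ⟨ζ, hζ, hfζ, hmax, -⟩ := FibDim.exists_fibMax_generization f x
  refine ⟨FibDim.rd f ζ, fun t ht he ha => ?_⟩
  obtain ⟨z, rfl⟩ := H1AssDim.exists_fibre_point f (f.base x) t he
  obtain ⟨z', rfl⟩ := H1AssDim.exists_fibre_point f (f.base x) ζ hfζ
  have hsp : ∀ w, f.fiberι (f.base x) w ⤳ x → w ⤳ f.asFiber x := fun w hw =>
    (FibDim.fiberι_specializes_iff f _ _).1 (by rwa [f.fiberι_asFiber])
  have hm := H1AssDim.xmin_of_xsk f _ hF le_rfl _ z (hsk z (hsp z ht)) ha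
  rw [Set.mem_singleton_iff, heq z z' (hsp z ht) (hsp z' hζ) hm ((xmin_iff_fibMax f _).2 hmax)]

/-- The locus of geometric `(R_k)` in equidimensional fibres without embedded components is open. -/
theorem isOpen_grk [Flat f] [LocallyOfFinitePresentation f] (k : ℕ) :
    IsOpen {x : X | (letI := FibreLoc5.lfp_fibre f (f.base x); GRk (f.fiberToSpecResidueField (f.base x)) k (f.asFiber x)) ∧ EqNoEmb f x} := by
  have hF := isFP_structureModule X
  have hflat := isFlatOver_structureModule f
  let T : ℕ → Set X := fun e => {x | ∀ t, t ⤳ x → f t = f x → t ∉ f.smoothLocus → FibDim.rd f t + k < e}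
  have hT : ∀ e, IsOpen (T e) := fun e => by
    by_cases he : k < e
    · convert isOpen_forall_rd_le f f.smoothLocus.2.isClosed_compl (e - k - 1) using 1
      exact Set.ext fun x => ⟨fun h w hw hwx hfw => by have := h w hwx hfw hw; omega,
        fun h t ht hft hts => by have := h t hts ht hft; omega⟩
    · convert f.smoothLocus.2 using 1
      exact Set.ext fun x => ⟨fun h => by_contra fun hx => by have := h x specializes_rfl rfl hx; omega,
        fun h t ht _ hts => absurd hts (fun hts' => hts' (f.smoothLocus.2.stableUnderGeneralization ht h))⟩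
  convert (isOpen_eqNoEmb f).inter (isOpen_iUnion fun e : ℕ =>
    (H1AssDim.isOpen_xassGen f _ hF hflat {(e : ℕ∞)}).inter (hT e)) using 1
  ext x
  haveI := FibreLoc5.lfp_fibre f (f.base x)
  simp only [Set.mem_inter_iff, Set.mem_iUnion, Set.mem_ofPred_eq, T]
  have key : ∀ e : ℕ, XGen f (fun t => XAss f (Coh.structureModule X) t → (FibDim.rd f t : ℕ∞) ∈ ({(e : ℕ∞)} : Set ℕ∞)) x →
      (GRk (f.fiberToSpecResidueField (f.base x)) k (f.asFiber x) ↔
        ∀ t, t ⤳ x → f t = f x → t ∉ f.smoothLocus → FibDim.rd f t + k < e) := by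
    intro e he
    have hdim : ∀ z, z ⤳ f.asFiber x → ∃ b : ℕ, ringKrullDim ((f.fiber (f.base x)).presheaf.stalk z) = b ∧
        FibDim.rd f (f.fiberι (f.base x) z) + b = e := fun z hz => by
      refine exists_fibre_stalk_dim f _ z e fun η hη hfη hmax => ?_
      have hfη' : f η = f x := hfη.trans (FibDim.fiber_apply_fiberι f z)
      obtain ⟨η', rfl⟩ := H1AssDim.exists_fibre_point f (f.base x) η hfη'
      have h1 := (hη.trans (hz.map (f.fiberι (f.base x)).continuous))
      rw [f.fiberι_asFiber] at h1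
      exact_mod_cast Set.mem_singleton_iff.1 (he _ h1 hfη' (xass_of_fibMax f _ η' hmax))
    constructor
    · intro h t ht hft hts
      obtain ⟨z, rfl⟩ := H1AssDim.exists_fibre_point f (f.base x) t hft
      have hz : z ⤳ f.asFiber x := (FibDim.fiberι_specializes_iff f _ _).1 (by rwa [f.fiberι_asFiber])
      obtain ⟨b, hb, hbe⟩ := hdim z hz
      by_contra hle
      refine hts ((mem_fibre_smoothLocus_iff f _ z).1 (h z hz ?_))
      rw [hb]; exact_mod_cast (show b ≤ k by omega)
    · intro h z hz hd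
      obtain ⟨b, hb, hbe⟩ := hdim z hz
      rw [hb] at hd
      have hd' : b ≤ k := by exact_mod_cast hd
      refine (mem_fibre_smoothLocus_iff f _ z).2 (by_contra fun hts => ?_)
      have h1 := hz.map (f.fiberι (f.base x)).continuous
      rw [f.fiberι_asFiber] at h1
      have := h _ h1 (FibDim.fiber_apply_fiberι f z) hts
      omega
  constructor
  · rintro ⟨hg, hE⟩
    obtain ⟨e, he⟩ := exists_xassGen_of_eqNoEmb f x hE
    exact ⟨hE, e, he, (key e he).1 hg⟩
  · rintro ⟨hE, e, he, hT'⟩
    exact ⟨(key e he).2 hT', hE⟩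

end Groth.Agent.H1GeomRk
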