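import Groth.Agent.H1AssDim.Fibre
import Mathlib

/-!
# From loci on the source to loci on the base of a closed morphism
-/

universe u

set_option backward.isDefEq.respectTransparency false
set_option backward.isDefEq.respectTransparency.types false

open AlgebraicGeometry CategoryTheory

namespace Groth.Agent.H1GeomRk

variable {X Y : Scheme.{u}} (f : X ⟶ Y)

/-- A condition on the points of a fibre, read on the source. -/
theorem forall_fibre_point_iff (P : ∀ s : Y, ↥(f.fiber s) → Prop) (s : Y) :
    (∀ w, P s w) ↔ ∀ t : X, f t = s → P (f.base t) (f.asFiber t) := by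
  constructor
  · rintro h t rfl
    exact h _
  · intro h w
    obtain ⟨t, ht⟩ : ∃ t, t = f.fiberι s w := ⟨_, rfl⟩
    have hs : f t = s := ht ▸ FibDim.fiber_apply_fiberι f w
    subst hs
    have : f.asFiber t = w := (f.fiberι (f t)).isEmbedding.injective ((f.fiberι_asFiber t).trans ht)
    exact this ▸ h t rfl

theorem isOpen_base_of_isOpen [UniversallyClosed f] (P : ∀ s : Y, ↥(f.fiber s) → Prop)
    (h : IsOpen {x : X | P (f.base x) (f.asFiber x)}) : IsOpen {y : Y | ∀ w, P y w} := by
  have hc := f.isClosedMap _ h.isClosed_compl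
  convert hc.isOpen_compl using 1
  ext y
  rw [Set.mem_ofPred_eq, forall_fibre_point_iff f P y]
  exact ⟨fun h ⟨t, ht, he⟩ => ht (h t he), fun h t he => by_contra fun ht => h ⟨t, ht, he⟩⟩

end Groth.Agent.H1GeomRk
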