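import Groth.Agent.H1GeomRk.Criterion
import Groth.Agent.Codepth5.Field
import Groth.Agent.FlatLoc6.SerreNormal
import Mathlib

/-!
# Geometrically normal points: `(R_1)` geometrically and `(S_2)`
-/

universe u

set_option backward.isDefEq.respectTransparency false
set_option backward.isDefEq.respectTransparency.types false
set_option linter.style.haveILetI false
set_option maxHeartbeats 1000000

open AlgebraicGeometry CategoryTheory CategoryTheory.Limits IsLocalRing
open Groth.Agent.Codepth5

namespace Groth.Agent.H1GeomRk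

theorem R1_S2_of_normal_local {R : Type u} [CommRing R] [IsNoetherianRing R] [IsDomain R] [IsIntegrallyClosed R] :
    LocCoh.HasRk 1 R ∧ LocCoh.HasSk 2 R R := by
  refine FlatLoc6.R1_S2_of_normal fun p _ => ?_
  have hle : p.primeCompl ≤ nonZeroDivisors R := p.primeCompl_le_nonZeroDivisors
  exact ⟨IsLocalization.isDomain_localization hle, isIntegrallyClosed_of_isLocalization _ p.primeCompl hle⟩

variable {k : Type u} [Field k] {X : Scheme.{u}} (f : X ⟶ Spec (CommRingCat.of k)) [LocallyOfFinitePresentation f]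

omit [LocallyOfFinitePresentation f] in
theorem fibIdeal_eq_bot (x : X) : fibIdeal f x = ⊥ := by
  have hpt : f x = genericPoint (Spec (CommRingCat.of k)) := Subsingleton.elim _ _
  have hF : IsField ((Spec (CommRingCat.of k)).presheaf.stalk (f x)) := by
    rw [hpt]
    exact Field.toIsField (Spec (CommRingCat.of k)).functionField
  rw [fibIdeal, IsLocalRing.isField_iff_maximalIdeal_eq.1 hF, Ideal.map_bot]

/-- `(S_n)` is invariant under extensions of the base field. -/
theorem skR_bc_iff (n : ℕ) (K : Type u) [Field K] [Algebra k K] (x' : ↥(FBase.bc f K)) :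
    SkR n ((FBase.bc f K).presheaf.stalk x') ↔ SkR n (X.presheaf.stalk ((FBase.bcπ f K).base x')) := by
  have hsq : IsPullback (FBase.bcπ f K) (FBase.bcStr f K) f (Spec.map (CommRingCat.ofHom (algebraMap k K))) :=
    IsPullback.of_hasPullback _ _
  have e : ∀ {L : Type u} [Field L] {Z : Scheme.{u}} (g : Z ⟶ Spec (CommRingCat.of L)) (z : Z),
      SkR n (Z.presheaf.stalk z) ↔ SkR n (Z.presheaf.stalk z ⧸ fibIdeal g z) := fun {L} _ {Z} g z =>
    (stable_skR n).congr ((RingEquiv.quotientBot _).symm.trans (Ideal.quotEquivOfEq (fibIdeal_eq_bot g z).symm))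
  rw [e (FBase.bcStr f K) x', e f]
  exact (stable_skR n).fibre_iff hsq x'

/-- Geometrically normal at `x`: geometrically `(R_1)` and `(S_2)`. -/
theorem hasRk_sk_of_normal (x : X)
    (h : ∀ (K : Type u) [Field K] [Algebra k K], Module.Finite k K → ∀ x' : ↥(FBase.bc f K),
      (FBase.bcπ f K).base x' = x →
        IsDomain ((FBase.bc f K).presheaf.stalk x') ∧ IsIntegrallyClosed ((FBase.bc f K).presheaf.stalk x')) :
    GRk f 1 x ∧ SkR 2 (X.presheaf.stalk x) := by
  haveI : IsLocallyNoetherian X := LocallyOfFiniteType.isLocallyNoetherian f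
  have hn : ∀ (K : Type u) [Field K] [Algebra k K], IsLocallyNoetherian (FBase.bc f K) := fun K _ _ =>
    haveI : LocallyOfFiniteType (FBase.bcStr f K) :=
      MorphismProperty.of_isPullback (P := @LocallyOfFiniteType) (IsPullback.of_hasPullback _ _) inferInstance
    LocallyOfFiniteType.isLocallyNoetherian (FBase.bcStr f K)
  refine ⟨grk_of_finite f 1 x fun K _ _ hK x' hx' => ?_, ?_⟩
  · haveI := hn K
    obtain ⟨_, _⟩ := h K hK x' hx'
    exact R1_S2_of_normal_local.1
  · haveI := hn k
    haveI : IsIso (Spec.map (CommRingCat.ofHom (algebraMap k k))) := by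
      rw [Algebra.algebraMap_self, CommRingCat.ofHom_id]; infer_instance
    haveI : IsIso (FBase.bcπ f k) := pullback_fst_iso_of_right_iso _ _
    obtain ⟨x', rfl⟩ : ∃ x' : ↥(FBase.bc f k), (FBase.bcπ f k).base x' = x :=
      (FBase.bcπ f k).homeomorph.surjective x
    obtain ⟨_, _⟩ := h k inferInstance x' rfl
    exact (skR_bc_iff f 2 k x').1 ⟨inferInstance, R1_S2_of_normal_local.2⟩

theorem normal_bc (x : X) (hR : GRk f 1 x) (hS : SkR 2 (X.presheaf.stalk x))
    (K : Type u) [Field K] [Algebra k K] (x' : ↥(FBase.bc f K)) (hx' : (FBase.bcπ f K).base x' = x) :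
    IsDomain ((FBase.bc f K).presheaf.stalk x') ∧ IsIntegrallyClosed ((FBase.bc f K).presheaf.stalk x') := by
  subst hx'
  obtain ⟨_, h2⟩ := (skR_bc_iff f 2 K x').2 hS
  exact FlatLoc6.normal_of_R1_S2 (hasRk_bc f 1 _ hR K x' rfl) h2

theorem forall_finite_normal_iff (x : X) :
    (∀ (K : Type u) [Field K] [Algebra k K], Module.Finite k K → ∀ x' : ↥(FBase.bc f K),
      (FBase.bcπ f K).base x' = x →
        IsDomain ((FBase.bc f K).presheaf.stalk x') ∧ IsIntegrallyClosed ((FBase.bc f K).presheaf.stalk x')) ↔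
      GRk f 1 x ∧ SkR 2 (X.presheaf.stalk x) :=
  ⟨hasRk_sk_of_normal f x, fun h K _ _ _ x' hx' => normal_bc f x h.1 h.2 K x' hx'⟩

theorem forall_normal_iff (x : X) :
    (∀ (K : Type u) [Field K] [Algebra k K] (x' : ↥(FBase.bc f K)),
      (FBase.bcπ f K).base x' = x →
        IsDomain ((FBase.bc f K).presheaf.stalk x') ∧ IsIntegrallyClosed ((FBase.bc f K).presheaf.stalk x')) ↔
      GRk f 1 x ∧ SkR 2 (X.presheaf.stalk x) :=
  ⟨fun h => hasRk_sk_of_normal f x fun K _ _ _ => h K, fun h K _ _ x' hx' => normal_bc f x h.1 h.2 K x' hx'⟩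

end Groth.Agent.H1GeomRk
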