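import Groth.Agent.H1GeomRk.Criterion
import Groth.Agent.FibreLoc5.Smooth
import Mathlib

/-!
# The geometric condition `(R_k)` in the fibres and open immersions
-/

universe u

set_option backward.isDefEq.respectTransparency false
set_option backward.isDefEq.respectTransparency.types false
set_option linter.style.haveILetI false
set_option maxHeartbeats 1000000

open AlgebraicGeometry CategoryTheory CategoryTheory.Limits IsLocalRing

namespace Groth.Agent.H1GeomRk

/-- Geometric `(R_n)` of the fibre through `x` at `x`. -/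
def GRkFib {X Y : Scheme.{u}} (f : X ⟶ Y) [LocallyOfFiniteType f] (n : ℕ) (x : X) : Prop :=
  letI := FibreLoc5.lfp_fibre f (f x)
  GRk (f.fiberToSpecResidueField (f x)) n (f.asFiber x)

/-- The condition is local on the scheme. -/
theorem grk_openImmersion_comp {k : Type u} [Field k] {U X : Scheme.{u}} (j : U ⟶ X) [IsOpenImmersion j]
    (f : X ⟶ Spec (CommRingCat.of k)) [LocallyOfFinitePresentation f]
    (g : U ⟶ Spec (CommRingCat.of k)) [LocallyOfFinitePresentation g] (hg : j ≫ f = g) (n : ℕ) (u : U) :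
    GRk g n u ↔ GRk f n (j u) := by
  subst hg
  have hdim : ∀ t : U, ringKrullDim (U.presheaf.stalk t) = ringKrullDim (X.presheaf.stalk (j t)) := fun t =>
    (ringKrullDim_eq_of_ringEquiv (asIso (j.stalkMap t)).commRingCatIsoToRingEquiv).symm
  have hsm : ∀ t : U, t ∈ (j ≫ f).smoothLocus ↔ j t ∈ f.smoothLocus := fun t => by
    rw [Scheme.Hom.mem_smoothLocus, Scheme.Hom.mem_smoothLocus]
    exact FibreLoc5.formallySmooth_openImmersion_comp j f t
  constructor
  · intro h t ht hd
    obtain ⟨t', rfl⟩ : t ∈ Set.range j := ht.mem_open j.isOpenEmbedding.isOpen_range ⟨u, rfl⟩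
    exact (hsm t').1 (h t' (j.isOpenEmbedding.isInducing.specializes_iff.1 ht) (by rwa [hdim]))
  · intro h t ht hd
    exact (hsm t).2 (h _ (ht.map j.continuous) (by rwa [← hdim]))

theorem grkFib_comp_openImmersion {U X Y : Scheme.{u}} (j : U ⟶ X) [IsOpenImmersion j] (f : X ⟶ Y)
    [LocallyOfFiniteType f] (n : ℕ) (u : U) : GRkFib (j ≫ f) n u ↔ GRkFib f n (j u) := by
  have key : ∀ (s : Y), f (j u) = s → ∀ (w : ↥((j ≫ f).fiber s)), (j ≫ f).fiberι s w = u →
      ((letI := FibreLoc5.lfp_fibre (j ≫ f) s; GRk ((j ≫ f).fiberToSpecResidueField s) n w) ↔ GRkFib f n (j u)) := by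
    rintro s rfl w hw
    haveI : IsOpenImmersion (MoreMor.fiberMap j f (f (j u))) :=
      MorphismProperty.of_isPullback (P := @IsOpenImmersion) (ConsPropLib.isPullback_fiberMap j f _) ‹_›
    haveI := FibreLoc5.lfp_fibre (j ≫ f) (f (j u))
    haveI := FibreLoc5.lfp_fibre f (f (j u))
    rw [grk_openImmersion_comp (MoreMor.fiberMap j f (f (j u))) (f.fiberToSpecResidueField (f (j u))) _
      (ConsPropLib.fiberMap_comp_toSpec j f (f (j u))) n w]
    have h4 : MoreMor.fiberMap j f (f (j u)) w = f.asFiber (j u) :=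
      (f.fiberι (f (j u))).isEmbedding.injective (by
        rw [← Scheme.Hom.comp_apply, ConsPropLib.fiberMap_comp_ι, Scheme.Hom.comp_apply, hw,
          Scheme.Hom.fiberι_asFiber])
    rw [h4]
    rfl
  exact key ((j ≫ f) u) (Scheme.Hom.comp_apply j f u).symm _ ((j ≫ f).fiberι_asFiber u)

end Groth.Agent.H1GeomRk
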