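import Groth.Agent.H1GeomRk.Open
import Groth.Agent.H1GeomRk.Normal
import Groth.Agent.H1GeomRk.Source
import Mathlib

/-!
# Openness of geometric normality of fibres on the flat locus (EGA IV 12.1.6)
-/

universe u

set_option backward.isDefEq.respectTransparency false
set_option backward.isDefEq.respectTransparency.types false
set_option linter.style.haveILetI false
set_option maxHeartbeats 1000000

open AlgebraicGeometry CategoryTheory CategoryTheory.Limits IsLocalRing
open Groth.Agent.Codepth5

namespace Groth.Agent.H1GeomRk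

variable {X Y : Scheme.{u}} (f : X ⟶ Y)

/-- The fibre through `x` is geometrically normal at `x`. -/
def NormFib [LocallyOfFiniteType f] (x : X) : Prop := GRkFib f 1 x ∧ FibP (SkR 2) f x

theorem forall_finite_normFib_iff [LocallyOfFiniteType f] (x : X) :
    (∀ (K : Type u) [Field K] [Algebra (IsLocalRing.ResidueField (Y.presheaf.stalk (f.base x))) K],
      Module.Finite (IsLocalRing.ResidueField (Y.presheaf.stalk (f.base x))) K →
      ∀ x' : ↥(FBase.bc (f.fiberToSpecResidueField (f.base x)) K),
        (FBase.bcπ (f.fiberToSpecResidueField (f.base x)) K).base x' = f.asFiber x →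
        IsDomain ((FBase.bc (f.fiberToSpecResidueField (f.base x)) K).presheaf.stalk x') ∧
          IsIntegrallyClosed ((FBase.bc (f.fiberToSpecResidueField (f.base x)) K).presheaf.stalk x')) ↔ NormFib f x := by
  haveI := FibreLoc5.lfp_fibre f (f.base x)
  exact forall_finite_normal_iff (f.fiberToSpecResidueField (f.base x)) (f.asFiber x)

theorem forall_normFib_iff [LocallyOfFiniteType f] (x : X) :
    (∀ (K : Type u) [Field K] [Algebra (IsLocalRing.ResidueField (Y.presheaf.stalk (f.base x))) K]
      (x' : ↥(FBase.bc (f.fiberToSpecResidueField (f.base x)) K)),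
        (FBase.bcπ (f.fiberToSpecResidueField (f.base x)) K).base x' = f.asFiber x →
        IsDomain ((FBase.bc (f.fiberToSpecResidueField (f.base x)) K).presheaf.stalk x') ∧
          IsIntegrallyClosed ((FBase.bc (f.fiberToSpecResidueField (f.base x)) K).presheaf.stalk x')) ↔ NormFib f x := by
  haveI := FibreLoc5.lfp_fibre f (f.base x)
  exact forall_normal_iff (f.fiberToSpecResidueField (f.base x)) (f.asFiber x)

theorem normFib_comp_openImmersion {U : Scheme.{u}} (j : U ⟶ X) [IsOpenImmersion j] [LocallyOfFiniteType f] (u : U) :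
    NormFib (j ≫ f) u ↔ NormFib f (j u) :=
  and_congr (grkFib_comp_openImmersion j f 1 u) ((good_skR 2).source j f inferInstance u)

theorem eqNoEmb_of_normFib [LocallyOfFiniteType f] (x : X) (h : NormFib f x) : EqNoEmb f x := by
  haveI := FibreLoc5.lfp_fibre f (f.base x)
  haveI : IsLocallyNoetherian (f.fiber (f.base x)) :=
    LocallyOfFiniteType.isLocallyNoetherian (f.fiberToSpecResidueField (f.base x))
  have hR : LocCoh.HasRk 1 ((f.fiber (f.base x)).presheaf.stalk (f.asFiber x)) :=
    (hasRk_stalk_iff _ 1).2 fun t ht hd =>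
      SmoothReg.isRegularLocalRing_stalk_of_mem_smoothLocus (f.fiberToSpecResidueField (f.base x)) (h.1 t ht hd)
  obtain ⟨_, h2⟩ := h.2
  obtain ⟨hdom, -⟩ := FlatLoc6.normal_of_R1_S2 hR h2
  haveI := hdom
  refine ⟨fun p hp => ?_, fun p hp => ?_⟩
  · rw [IsDomain.minimalPrimes_eq_singleton_bot, Set.mem_singleton_iff] at hp
    subst hp
    exact ringKrullDim_eq_of_ringEquiv (RingEquiv.quotientBot _)
  · rw [IsDomain.minimalPrimes_eq_singleton_bot, Set.mem_singleton_iff]
    obtain ⟨hp1, a, ha⟩ := isAssociatedPrime_iff.1 hp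
    by_cases ha0 : a = 0
    · exact absurd (ha.trans (by rw [ha0]; exact eq_top_iff.2 fun r _ => Submodule.mem_colon_singleton.2 (by simp))) hp1.ne_top
    · rw [ha]
      refine eq_bot_iff.2 fun r hr => ?_
      rw [Submodule.mem_colon_singleton, Submodule.mem_bot, smul_eq_mul] at hr
      exact (Submodule.mem_bot _).2 ((mul_eq_zero.1 hr).resolve_right ha0)

theorem isOpen_normFib [Flat f] [LocallyOfFinitePresentation f] : IsOpen {x : X | NormFib f x} := by
  have h2 : IsOpen {x : X | FibP (SkR 2) f x} := by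
    convert (good_skR 2).isOpen f inferInstance using 1
    ext x
    exact (and_iff_right (Flat.stalkMap f x)).symm
  convert (isOpen_grk f 1).inter h2 using 1
  ext x
  exact ⟨fun h => ⟨⟨h.1, eqNoEmb_of_normFib f x h⟩, h.2⟩, fun h => ⟨h.1.1, h.2⟩⟩

theorem isOpen_flat_normFib [LocallyOfFinitePresentation f] :
    IsOpen {x : X | (f.stalkMap x).hom.Flat ∧ NormFib f x} := by
  let U : X.Opens := ⟨{z | (f.stalkMap z).hom.Flat}, FlatLocus.isOpen_flat_locus f⟩
  haveI : Flat (U.ι ≫ f) := Flat.iff_flat_stalkMap _ |>.2 fun u => by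
    rw [Scheme.Hom.stalkMap_comp, CommRingCat.hom_comp]
    exact RingHom.Flat.comp u.2 (RingHom.Flat.of_bijective (ConcreteCategory.bijective_of_isIso (U.ι.stalkMap u)))
  convert U.ι.isOpenEmbedding.isOpenMap _ (isOpen_normFib (U.ι ≫ f)) using 1
  ext x
  constructor
  · rintro ⟨hx, hn⟩
    exact ⟨⟨x, hx⟩, (normFib_comp_openImmersion f U.ι _).2 hn, rfl⟩
  · rintro ⟨u, hu, rfl⟩
    exact ⟨u.2, (normFib_comp_openImmersion f U.ι u).1 hu⟩

end Groth.Agent.H1GeomRk
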