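import Groth.Agent.H1GeomRk.GRkCons
import Groth.Agent.H1GeomRk.NormalOpen
import Groth.Agent.H1GeomRk.Base
import Mathlib

/-!
# Loci on the base
-/

universe u

set_option backward.isDefEq.respectTransparency false
set_option backward.isDefEq.respectTransparency.types false

open AlgebraicGeometry CategoryTheory Topology

namespace Groth.Agent.H1GeomRk

variable {X Y : Scheme.{u}} (f : X ⟶ Y)

theorem isLocallyConstructible_base [LocallyOfFinitePresentation f] [QuasiCompact f] [QuasiSeparated f]
    (P : ∀ s : Y, ↥(f.fiber s) → Prop) (h : IsLocallyConstructible {x : X | P (f.base x) (f.asFiber x)}) :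
    IsLocallyConstructible {y : Y | ∀ w, P y w} := by
  have h' := FibreLoc5.lc_compl (f.isLocallyConstructible_image (FibreLoc5.lc_compl h))
  convert h' using 1
  ext y
  rw [Set.mem_ofPred_eq, forall_fibre_point_iff f P y]
  exact ⟨fun h ⟨t, ht, he⟩ => ht (h t he), fun h t he => by_contra fun ht => h ⟨t, ht, he⟩⟩

end Groth.Agent.H1GeomRk
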