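import Groth.Agent.SmoothReg.GeomRegularAt
import Groth.Agent.SmoothReg.Scheme
import Groth.Agent.S1562
import Groth.Agent.S2155
import Groth.Agent.Alg6.RkLoc
import Groth.Agent.H23.Isogeny
import Groth.Agent.FlatDvr.DimFibre
import Groth.Agent.SchTop.Closed
import Groth.Agent.FibreLoc5.Constr
import Groth.Agent.AssLib.Basic
import Mathlib

/-!
# The geometric condition `(R_k)` at a point of a scheme over a field
-/

universe u

set_option backward.isDefEq.respectTransparency false
set_option backward.isDefEq.respectTransparency.types false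
set_option linter.style.haveILetI false
set_option maxHeartbeats 1000000

open AlgebraicGeometry CategoryTheory CategoryTheory.Limits IsLocalRing

namespace Groth.Agent.H1GeomRk

/-- The points at which the dimension of the local ring is at most `n` are in the smooth locus. -/
def GRk {k : Type u} [Field k] {X : Scheme.{u}} (f : X ⟶ Spec (CommRingCat.of k)) [LocallyOfFinitePresentation f]
    (n : ℕ) (x : X) : Prop :=
  ∀ t, t ⤳ x → ringKrullDim (X.presheaf.stalk t) ≤ (n : WithBot ℕ∞) → t ∈ f.smoothLocus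

theorem hasRk_of_ringEquiv {R S : Type u} [CommRing R] [CommRing S] (e : R ≃+* S) {n : ℕ}
    (h : LocCoh.HasRk n R) : LocCoh.HasRk n S := by
  intro q _ hq
  haveI := h (q.comap (e : R →+* S)) (le_of_eq_of_le (e.height_comap q) hq)
  refine IsRegularLocalRing.of_ringEquiv (IsLocalization.ringEquivOfRingEquiv
    (M := (q.comap (e : R →+* S)).primeCompl) (T := q.primeCompl) (Localization.AtPrime (q.comap (e : R →+* S)))
    (Localization.AtPrime q) e ?_)
  ext y
  simp [Submonoid.mem_map, Ideal.primeCompl]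
  exact ⟨fun ⟨x, hx, he⟩ => he ▸ hx, fun hy => ⟨e.symm y, by simpa using hy, by simp⟩⟩

/-- `(R_n)` of a local ring, by the generizations. -/
theorem hasRk_stalk_iff {X : Scheme.{u}} [IsLocallyNoetherian X] (x : X) (n : ℕ) :
    LocCoh.HasRk n (X.presheaf.stalk x) ↔
      ∀ t, t ⤳ x → ringKrullDim (X.presheaf.stalk t) ≤ (n : WithBot ℕ∞) → IsRegularLocalRing (X.presheaf.stalk t) := by
  obtain ⟨V, hV, hx, -⟩ := exists_isAffineOpen_mem_and_subset (x := x) (U := ⊤) trivial
  have h0 : LocCoh.HasRk n (X.presheaf.stalk x) ↔ LocCoh.HasRk n (Localization.AtPrime (hV.primeIdealOf ⟨x, hx⟩).asIdeal) :=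
    ⟨hasRk_of_ringEquiv (SmoothReg.stalkEquiv hV hx).symm, hasRk_of_ringEquiv (SmoothReg.stalkEquiv hV hx)⟩
  rw [h0, Alg6.hasRk_localization_iff]
  have key : ∀ t (ht : t ∈ V), ringKrullDim (X.presheaf.stalk t) = (hV.primeIdealOf ⟨t, ht⟩).asIdeal.height := fun t ht => by
    letI := X.presheaf.algebra_section_stalk ⟨t, ht⟩
    haveI := hV.isLocalization_stalk ⟨t, ht⟩
    exact IsLocalization.AtPrime.ringKrullDim_eq_height (hV.primeIdealOf ⟨t, ht⟩).asIdeal (X.presheaf.stalk t)
  constructor
  · intro h t ht hd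
    have htV : t ∈ V := ht.mem_open V.2 hx
    haveI := h (hV.primeIdealOf ⟨t, htV⟩).asIdeal
      ((Alg6.disjoint_primeCompl_iff _ _).2 ((AssLib.primeIdealOf_le_iff hV hx htV).2 ht))
      (by rw [key t htV] at hd; exact WithBot.coe_le_coe.1 hd)
    exact IsRegularLocalRing.of_ringEquiv (SmoothReg.stalkEquiv hV htV)
  · intro h q hq hle hk
    obtain ⟨t, htV, he⟩ := QCoh.exists_point hV (⟨q, hq⟩ : PrimeSpectrum Γ(X, V))
    obtain rfl : (hV.primeIdealOf ⟨t, htV⟩).asIdeal = q := congrArg PrimeSpectrum.asIdeal he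
    haveI := h t ((AssLib.primeIdealOf_le_iff hV hx htV).1 ((Alg6.disjoint_primeCompl_iff _ _).1 hle))
      (by rw [key t htV]; exact WithBot.coe_le_coe.2 hk)
    exact IsRegularLocalRing.of_ringEquiv (SmoothReg.stalkEquiv hV htV).symm

variable {k : Type u} [Field k] {X : Scheme.{u}} (f : X ⟶ Spec (CommRingCat.of k)) [LocallyOfFinitePresentation f]

/-- The condition gives `(R_n)` after every field extension. -/
theorem hasRk_bc (n : ℕ) (x : X) (h : GRk f n x) (K : Type u) [Field K] [Algebra k K] (x' : ↥(FBase.bc f K))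
    (hx' : (FBase.bcπ f K).base x' = x) : LocCoh.HasRk n ((FBase.bc f K).presheaf.stalk x') := by
  have hsq : IsPullback (FBase.bcπ f K) (FBase.bcStr f K) f (Spec.map (CommRingCat.ofHom (algebraMap k K))) :=
    IsPullback.of_hasPullback _ _
  haveI : LocallyOfFinitePresentation (FBase.bcStr f K) := MorphismProperty.of_isPullback hsq ‹_›
  haveI : Flat (Spec.map (CommRingCat.ofHom (algebraMap k K))) :=
    Flat.SpecMap_iff.2 (RingHom.flat_algebraMap_iff.2 inferInstance)
  haveI : Flat (FBase.bcπ f K) := MorphismProperty.of_isPullback hsq.flip ‹_›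
  haveI : IsLocallyNoetherian X := LocallyOfFiniteType.isLocallyNoetherian f
  haveI : IsLocallyNoetherian (FBase.bc f K) := LocallyOfFiniteType.isLocallyNoetherian (FBase.bcStr f K)
  rw [hasRk_stalk_iff]
  intro t' ht' hd
  refine SmoothReg.isRegularLocalRing_stalk_of_mem_smoothLocus (FBase.bcStr f K) ?_
  rw [S2155.result f _ (FBase.bcStr f K) (FBase.bcπ f K) hsq (.inr inferInstance)]
  exact h _ (hx' ▸ ht'.map (FBase.bcπ f K).continuous)
    ((H23.Isogeny.ringKrullDim_le_of_flat ((FBase.bcπ f K).stalkMap t').hom (Flat.stalkMap (FBase.bcπ f K) t')).trans hd)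

/-- The dimension of the local ring does not go up along a finite morphism. -/
theorem ringKrullDim_stalk_le_of_finite {Z W : Scheme.{u}} (p : Z ⟶ W) [IsFinite p] [IsLocallyNoetherian W] (z : Z) :
    ringKrullDim (Z.presheaf.stalk z) ≤ ringKrullDim (W.presheaf.stalk (p z)) := by
  haveI : IsLocallyNoetherian Z := LocallyOfFiniteType.isLocallyNoetherian p
  refine (FlatDvr.ringKrullDim_stalk_le p z).trans ((add_le_add le_rfl ((SchTop.ringKrullDim_stalk_le _).trans
    (topologicalKrullDim_zero_of_discreteTopology _))).trans (add_zero _).le)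

/-- `(R_n)` after the finite extensions gives the condition. -/
theorem grk_of_finite (n : ℕ) (x : X)
    (h : ∀ (K : Type u) [Field K] [Algebra k K], Module.Finite k K → ∀ x' : ↥(FBase.bc f K),
      (FBase.bcπ f K).base x' = x → LocCoh.HasRk n ((FBase.bc f K).presheaf.stalk x')) :
    GRk f n x := by
  intro t ht hd
  letI : X.Over (Spec (CommRingCat.of k)) := ⟨f⟩
  haveI : LocallyOfFinitePresentation (X ↘ Spec (CommRingCat.of k)) := ‹LocallyOfFinitePresentation f›
  haveI : IsLocallyNoetherian X := LocallyOfFiniteType.isLocallyNoetherian f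
  refine (S1562.result k X t).1 (SmoothReg.isGeomRegularAt_of_purelyInseparable t fun k' _ _ hfin _ t' ht' => ?_)
  haveI : IsFinite (Spec.map (CommRingCat.ofHom (algebraMap k k'))) :=
    (IsFinite.SpecMap_iff _).2 (RingHom.finite_algebraMap.2 hfin)
  have hsq : IsPullback (FBase.bcπ f k') (FBase.bcStr f k') f (Spec.map (CommRingCat.ofHom (algebraMap k k'))) :=
    IsPullback.of_hasPullback _ _
  haveI : IsFinite (FBase.bcπ f k') := MorphismProperty.of_isPullback hsq.flip ‹_›
  haveI : IsLocallyNoetherian (FBase.bc f k') := LocallyOfFiniteType.isLocallyNoetherian (FBase.bcπ f k')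
  have hcl := (FBase.bcπ f k').isClosedMap _ (isClosed_closure (s := {t'}))
  have hmem : x ∈ (FBase.bcπ f k').base '' closure {t'} :=
    hcl.closure_subset_iff.2 (Set.singleton_subset_iff.2 ⟨t', subset_closure rfl, ht'⟩) (specializes_iff_mem_closure.1 ht)
  obtain ⟨x', hx't', hx'⟩ := hmem
  exact (hasRk_stalk_iff x' n).1 (h k' hfin x' hx') t' (specializes_iff_mem_closure.2 hx't')
    ((ringKrullDim_stalk_le_of_finite (FBase.bcπ f k') t').trans (by rw [show (FBase.bcπ f k') t' = t from ht']; exact hd))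

theorem forall_finite_iff (n : ℕ) (x : X) :
    (∀ (K : Type u) [Field K] [Algebra k K], Module.Finite k K → ∀ x' : ↥(FBase.bc f K),
      (FBase.bcπ f K).base x' = x → LocCoh.HasRk n ((FBase.bc f K).presheaf.stalk x')) ↔ GRk f n x :=
  ⟨grk_of_finite f n x, fun h K _ _ _ x' hx' => hasRk_bc f n x h K x' hx'⟩

theorem forall_iff (n : ℕ) (x : X) :
    (∀ (K : Type u) [Field K] [Algebra k K] (x' : ↥(FBase.bc f K)),
      (FBase.bcπ f K).base x' = x → LocCoh.HasRk n ((FBase.bc f K).presheaf.stalk x')) ↔ GRk f n x :=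
  ⟨fun h => grk_of_finite f n x fun K _ _ _ => h K, fun h K _ _ x' hx' => hasRk_bc f n x h K x' hx'⟩

end Groth.Agent.H1GeomRk
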