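import Groth.Agent.H1GeomRk.Cons
import Groth.Agent.H1GeomRk.Source
import Groth.Agent.Codepth5.Field
import Mathlib

/-!
# Constructibility of the geometric condition `(R_k)` in the fibres (EGA IV 9.9.4)
-/

universe u

set_option backward.isDefEq.respectTransparency false
set_option backward.isDefEq.respectTransparency.types false
set_option linter.style.haveILetI false
set_option maxHeartbeats 1000000

open AlgebraicGeometry CategoryTheory CategoryTheory.Limits Topology IsLocalRing

namespace Groth.Agent.H1GeomRk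

/-- A generization lifts along a flat morphism without increasing the dimension of the local ring. -/
theorem exists_gen_dim_le {Z W : Scheme.{u}} (π : Z ⟶ W) [Flat π] [IsLocallyNoetherian Z] [IsLocallyNoetherian W]
    (z : Z) (t : W) (ht : t ⤳ π z) :
    ∃ t', t' ⤳ z ∧ π t' = t ∧ ringKrullDim (Z.presheaf.stalk t') ≤ ringKrullDim (W.presheaf.stalk t) := by
  obtain ⟨t₀, ht₀, rfl⟩ := (Flat.generalizingMap π) ht
  obtain ⟨w₀, hw₀⟩ : t₀ ∈ Set.range (π.fiberι (π t₀)) := by rw [Scheme.Hom.range_fiberι]; rfl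
  obtain ⟨η, hη, hmax⟩ := FibDim.exists_maximal_generization w₀
  refine ⟨π.fiberι (π t₀) η, ((hη.map (π.fiberι (π t₀)).continuous).trans (specializes_of_eq hw₀)).trans ht₀,
    FibDim.fiber_apply_fiberι π η, ?_⟩
  have key : ∀ (y : W) (a : Z) (w : ↥(π.fiber y)), π.fiberι y w = a → π a = y → (∀ w', w' ⤳ w → w' = w) →
      ringKrullDim (Z.presheaf.stalk a) ≤ ringKrullDim (W.presheaf.stalk y) := by
    rintro y a w hw rfl hm
    obtain rfl : π.asFiber a = w := (π.fiberι (π a)).isEmbedding.injective ((π.fiberι_asFiber a).trans hw.symm)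
    refine (FlatDvr.ringKrullDim_stalk_le π a).trans ((add_le_add le_rfl ?_).trans (add_zero _).le)
    rw [ringKrullDim_stalk_eq_coheight, Order.coheight_eq_zero.2 fun b hb => ?_]
    · rfl
    · exact specializes_of_eq (hm b hb).symm
  exact key _ _ η rfl (FibDim.fiber_apply_fiberι π η) hmax

/-- The condition is invariant under extensions of the base field. -/
theorem grk_of_isPullback {k L : Type u} [Field k] [Field L] {Z Z' : Scheme.{u}} {f : Z ⟶ Spec (CommRingCat.of k)}
    {f' : Z' ⟶ Spec (CommRingCat.of L)} {g' : Z' ⟶ Z} {γ : Spec (CommRingCat.of L) ⟶ Spec (CommRingCat.of k)} [Flat γ]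
    [LocallyOfFinitePresentation f] [LocallyOfFinitePresentation f'] (hsq : IsPullback g' f' f γ) (n : ℕ) (x' : Z') :
    GRk f' n x' ↔ GRk f n (g' x') := by
  haveI : Flat g' := MorphismProperty.of_isPullback hsq.flip ‹_›
  haveI : IsLocallyNoetherian Z := LocallyOfFiniteType.isLocallyNoetherian f
  haveI : IsLocallyNoetherian Z' := LocallyOfFiniteType.isLocallyNoetherian f'
  have hsm : f'.smoothLocus = g' ⁻¹ᵁ f.smoothLocus := S2155.result f γ f' g' hsq (.inr inferInstance)
  constructor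
  · intro h t ht hd
    obtain ⟨t', ht', rfl, hdim⟩ := exists_gen_dim_le g' x' t ht
    have := h t' ht' (hdim.trans hd)
    rw [hsm] at this
    exact this
  · intro h t' ht' hd
    rw [hsm]
    exact h _ (ht'.map g'.continuous)
      ((H23.Isogeny.ringKrullDim_le_of_flat (g'.stalkMap t').hom (Flat.stalkMap g' t')).trans hd)

/-- Geometric `(R_n)` of the fibre through `x` at `x`, without instance arguments. -/
def GRkP (n : ℕ) ⦃X Y : Scheme.{u}⦄ (f : X ⟶ Y) (x : X) : Prop :=
  ∀ t : ↥(f.fiber (f x)), t ⤳ f.asFiber x → ringKrullDim ((f.fiber (f x)).presheaf.stalk t) ≤ (n : WithBot ℕ∞) →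
    ((f.fiberToSpecResidueField (f x)).stalkMap t).hom.FormallySmooth

theorem grkP_iff {X Y : Scheme.{u}} (f : X ⟶ Y) [LocallyOfFiniteType f] (n : ℕ) (x : X) :
    GRkP n f x ↔ GRkFib f n x := Iff.rfl

theorem grkP_baseChange {X Y X' Y' : Scheme.{u}} (f : X ⟶ Y) (p : X' ⟶ X) (q : X' ⟶ Y') (g : Y' ⟶ Y)
    (hsq : IsPullback p q f g) [LocallyOfFiniteType f] (n : ℕ) (z : X') : GRkP n q z ↔ GRkP n f (p z) := by
  haveI : LocallyOfFiniteType q := MorphismProperty.of_isPullback (P := @LocallyOfFiniteType) hsq ‹_›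
  rw [grkP_iff, grkP_iff]
  haveI := FibreLoc5.lfp_fibre q (q z)
  have hs : g (q z) = f (p z) := by rw [← Scheme.Hom.comp_apply, ← hsq.w, Scheme.Hom.comp_apply]
  obtain ⟨e, he, hei⟩ := ConsPropLib.exists_fibre_pullback hsq (q z)
  have key : ∀ (s : Y) (_ : f (p z) = s) (e : q.fiber (q z) ⟶ f.fiber s) (γ : Spec (Y'.residueField (q z)) ⟶ Spec (Y.residueField s))
      [Flat γ],
      IsPullback e (q.fiberToSpecResidueField (q z)) (f.fiberToSpecResidueField s) γ →
      e ≫ f.fiberι s = q.fiberι (q z) ≫ p →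
      (GRkFib q n z ↔ GRkFib f n (p z)) := by
    rintro s rfl e γ _ he hei
    haveI := FibreLoc5.lfp_fibre f (f (p z))
    have hz : e (q.asFiber z) = f.asFiber (p z) := (f.fiberι (f (p z))).isEmbedding.injective (by
      rw [← Scheme.Hom.comp_apply, hei, Scheme.Hom.comp_apply, Scheme.Hom.fiberι_asFiber, Scheme.Hom.fiberι_asFiber])
    have h := grk_of_isPullback (k := Y.residueField (f (p z))) (L := Y'.residueField (q z)) he n (q.asFiber z)
    rw [hz] at h
    exact h
  haveI : Flat (Spec.map (g.residueFieldMap (q z))) := by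
    rw [Flat.SpecMap_iff]
    letI := (g.residueFieldMap (q z)).hom.toAlgebra
    show Module.Flat (Y.residueField (g (q z))) (Y'.residueField (q z))
    infer_instance
  exact key (g (q z)) hs.symm e _ he hei

theorem smFib_fiberι_iff {X Y : Scheme.{u}} (f : X ⟶ Y) (s : Y) (z : ↥(f.fiber s)) :
    FibreLoc5.SmFib f (f.fiberι s z) ↔ ((f.fiberToSpecResidueField s).stalkMap z).hom.FormallySmooth := by
  have key : ∀ (s : Y) (a : X) (w : ↥(f.fiber s)), f.fiberι s w = a → f a = s →
      (FibreLoc5.SmFib f a ↔ ((f.fiberToSpecResidueField s).stalkMap w).hom.FormallySmooth) := by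
    rintro s a w hw rfl
    obtain rfl : f.asFiber a = w := (f.fiberι (f a)).isEmbedding.injective ((f.fiberι_asFiber a).trans hw.symm)
    exact Iff.rfl
  exact key s _ z rfl (FibDim.fiber_apply_fiberι f z)

/-- The dimension of a local ring of a fibre. -/
theorem exists_dim_fibre_stalk {X Y : Scheme.{u}} (f : X ⟶ Y) [LocallyOfFiniteType f] (s : Y) (z : ↥(f.fiber s)) :
    ∃ b e : ℕ, ringKrullDim ((f.fiber s).presheaf.stalk z) = b ∧
      FlatMor.fibreDimAt f (f.fiberι s z) = ((e : ℕ∞) : WithBot ℕ∞) ∧ FibDim.rd f (f.fiberι s z) + b = e := by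
  obtain ⟨ζ, hζ, hfζ, he, hmax⟩ := FibDim.exists_fibreDimAt_eq f (f.fiberι s z)
  obtain ⟨b, hb, ⟨η, hη, hηb⟩, hle⟩ :=
    VarDim.exists_deg_add_stalk (k := Y.residueField s) (f.fiberToSpecResidueField s) z
  refine ⟨b, _, hb, he, le_antisymm ?_ ?_⟩
  · have := hmax (f.fiberι s η) (hη.map (f.fiberι s).continuous)
      ((FibDim.fiber_apply_fiberι f η).trans (FibDim.fiber_apply_fiberι f z).symm)
    rw [FibDim.deg_fiber, FibDim.deg_fiber] at hηb
    omega
  · obtain ⟨ζ', rfl⟩ := H1AssDim.exists_fibre_point f s ζ (hfζ.trans (FibDim.fiber_apply_fiberι f z))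
    have h1 := hle ζ' ((FibDim.fiberι_specializes_iff f _ _).1 hζ)
    rw [FibDim.deg_fiber, FibDim.deg_fiber] at h1
    exact h1

theorem isConstructible_grkP_noetherian {X S : Scheme.{u}} [IsNoetherian X] [IsNoetherian S] (f : X ⟶ S)
    [LocallyOfFiniteType f] (n : ℕ) : IsConstructible {x : X | GRkP n f x} := by
  have hC : IsConstructible {x : X | FibreLoc5.SmFib f x}ᶜ :=
    (FibreLoc5.isConstructible_noetherian FibreLoc5.good_SmFib f).compl
  let D : ℕ → Set X := fun e => {x | FlatMor.fibreDimAt f x ≤ e}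
  have hD : ∀ e, IsConstructible (D e) := fun e =>
    (show IsRetrocompact (D e) from fun U _ _ => TopologicalSpace.NoetherianSpace.isCompact _).isConstructible
      (FibDim.isOpen_fibreDimAt_le f e)
  obtain ⟨N, hN⟩ : ∃ N, (Set.univ : Set X) ⊆ D N := by
    refine (TopologicalSpace.NoetherianSpace.isCompact (Set.univ : Set X)).elim_directed_cover D
      (fun e => FibDim.isOpen_fibreDimAt_le f e) (fun x _ => ?_) ?_
    · obtain ⟨z, -, -, he, -⟩ := FibDim.exists_fibreDimAt_eq f x
      exact Set.mem_iUnion.2 ⟨_, he.le⟩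
    · exact Monotone.directed_le fun a b hab x hx => le_trans (show FlatMor.fibreDimAt f x ≤ a from hx) (by exact_mod_cast hab)
  have hbad : IsConstructible (⋃ e ∈ Set.Iic N, GenGE f ({x : X | FibreLoc5.SmFib f x}ᶜ ∩ D e) (e - n)) :=
    IsConstructible.biUnion (Set.finite_Iic N) fun e _ => isConstructible_genGE f (hC.inter (hD e)) _
  convert hbad.compl using 1
  ext x
  simp only [Set.mem_compl_iff, Set.mem_iUnion, Set.mem_Iic, exists_prop, Set.mem_ofPred_eq]
  constructor
  · rintro h ⟨e, -, t, ⟨hts, htD⟩, hsp, hft, hle⟩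
    obtain ⟨z, rfl⟩ := H1AssDim.exists_fibre_point f (f x) t hft
    obtain ⟨b, d, hb, hd, hbd⟩ := exists_dim_fibre_stalk f (f x) z
    have hde : d ≤ e := by
      have h' := htD
      simp only [D, Set.mem_ofPred_eq, hd] at h'
      exact_mod_cast h'
    refine hts ((smFib_fiberι_iff f _ z).2 (h z ?_ (by rw [hb]; exact_mod_cast (show b ≤ n by omega))))
    exact (FibDim.fiberι_specializes_iff f _ _).1 (by rwa [f.fiberι_asFiber])
  · intro h z hz hdim
    by_contra hns
    obtain ⟨b, d, hb, hd, hbd⟩ := exists_dim_fibre_stalk f (f x) z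
    rw [hb] at hdim
    have hbn : b ≤ n := by exact_mod_cast hdim
    have hdN : d ≤ N := by
      have h' := hN (Set.mem_univ (f.fiberι (f x) z))
      simp only [D, Set.mem_ofPred_eq, hd] at h'
      exact_mod_cast h'
    have h1 := hz.map (f.fiberι (f x)).continuous
    rw [f.fiberι_asFiber] at h1
    refine h ⟨d, hdN, f.fiberι (f x) z, ⟨fun hs => hns ((smFib_fiberι_iff f _ z).1 hs), ?_⟩, h1,
      FibDim.fiber_apply_fiberι f z, by omega⟩
    show FlatMor.fibreDimAt f (f.fiberι (f x) z) ≤ d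
    rw [hd]
    exact le_rfl

theorem isLocallyConstructible_grkP {X S : Scheme.{u}} (f : X ⟶ S) [LocallyOfFinitePresentation f] (n : ℕ) :
    IsLocallyConstructible {x : X | GRkP n f x} := by
  intro x
  obtain ⟨V, hV, hxV, -⟩ := exists_isAffineOpen_mem_and_subset (U := (⊤ : S.Opens)) (x := f x) trivial
  obtain ⟨U, hU, hxU, hUV'⟩ := exists_isAffineOpen_mem_and_subset (U := f ⁻¹ᵁ V) (x := x) hxV
  have hUV : U ≤ f ⁻¹ᵁ V := hUV'
  refine ⟨U, U.2.mem_nhds hxU, U.2, ?_⟩
  haveI : IsAffine (U : Scheme.{u}) := hU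
  haveI : IsAffine (V : Scheme.{u}) := hV
  let g := f.resLE V U hUV
  obtain ⟨S₀, X₀, _, π, u₀, _, qX, _, _, _, _, _, -, -, sq, -⟩ := ConsPropLib.exists_model_pair g g
  haveI : IsLocallyNoetherian X₀ := LocallyOfFiniteType.isLocallyNoetherian u₀
  haveI : CompactSpace X₀ := QuasiCompact.compactSpace_of_compactSpace u₀
  haveI : IsNoetherian X₀ := {}
  haveI : QuasiCompact qX := MorphismProperty.of_isPullback (P := @QuasiCompact) sq.flip inferInstance
  have h1 := qX.isConstructible_preimage (isConstructible_grkP_noetherian u₀ n)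
  have hset : (U.ι ⁻¹' {x : X | GRkP n f x} : Set (U : Scheme.{u})) = qX ⁻¹' {x : X₀ | GRkP n u₀ x} := by
    ext z
    have hgf : g ≫ V.ι = U.ι ≫ f := f.resLE_comp_ι hUV
    haveI : LocallyOfFiniteType (g ≫ V.ι) := inferInstance
    have hmono : IsPullback (𝟙 (U : Scheme.{u})) g (g ≫ V.ι) V.ι :=
      IsPullback.mk ⟨by simp⟩ ⟨PullbackCone.IsLimit.mk _
        (fun s => s.fst) (fun s => by simp) (fun s => (cancel_mono V.ι).1 (by rw [Category.assoc]; exact s.condition))
        (fun s m h1 _ => by simpa using h1)⟩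
    show GRkP n f (U.ι z) ↔ GRkP n u₀ (qX z)
    rw [← grkP_baseChange u₀ qX g π sq n z, grkP_baseChange (g ≫ V.ι) (𝟙 _) g V.ι hmono n z,
      show (GRkP n f (U.ι z)) ↔ GRkP n (U.ι ≫ f) z from (grkFib_comp_openImmersion U.ι f n z).symm, hgf]
    rfl
  show IsConstructible (U.ι ⁻¹' {x : X | GRkP n f x} : Set (U : Scheme.{u}))
  rw [hset]
  exact h1

end Groth.Agent.H1GeomRk
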